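import Mathlib
import Groth.Prelude.Def_RelSpec
import Groth.Prelude.Def_PerfAux
import Groth.Agent.SymAlgLib.Pts
import Groth.Agent.QCSubLib.Main
import Groth.Agent.SerreGenLib.Main
import Groth.Agent.FinLFAnnLib.Main
import Groth.Agent.QCohLib.SerreCrit
import Groth.Agent.QCohLib.AffineFinite

/-!
# The resolution property and closed immersions into vector bundles
-/

set_option autoImplicit false
set_option linter.style.haveILetI false
set_option linter.unusedSectionVars false

universe u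

open AlgebraicGeometry CategoryTheory CategoryTheory.Limits Opposite TopologicalSpace
open AlgebraicGeometry.Scheme.AffineZariskiSite
open CycBdlLib (toF str_toF preimage_le)

noncomputable section

namespace ResolEmbLib

variable {X Y S : Scheme.{u}}

/-- A morphism of schemes affine over `S` which is surjective on sections over affines of `S` is a closed
immersion. -/
theorem isClosedImmersion_of_surjective (h : X ⟶ Y) (g : X ⟶ S) (p : Y ⟶ S) [IsAffineHom g] [IsAffineHom p]
    (hg : h ≫ p = g)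
    (H : ∀ U : S.Opens, IsAffineOpen U →
      Function.Surjective (h.appLE (p ⁻¹ᵁ U) (g ⁻¹ᵁ U) (preimage_le hg U))) : IsClosedImmersion h := by
  subst hg
  refine IsZariskiLocalAtTarget.of_iSup_eq_top (fun U : S.affineOpens => p ⁻¹ᵁ U.1) ?_ fun U => ?_
  · rw [← Scheme.Hom.preimage_iSup, iSup_affineOpens_eq_top, Scheme.Hom.preimage_top]
  · haveI : IsAffine (p ⁻¹ᵁ U.1 : Scheme.{u}) := U.2.preimage p
    haveI : IsAffine (h ⁻¹ᵁ (p ⁻¹ᵁ U.1) : Scheme.{u}) := U.2.preimage (h ≫ p)
    refine IsClosedImmersion.of_surjective_of_isAffine _ ?_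
    simp only [Scheme.Hom.appTop, morphismRestrict_app', TopologicalSpace.Opens.map_top]
    exact (Scheme.Hom.appLE_congr h _ (p ⁻¹ᵁ U.1).ι_image_top.symm (Scheme.Opens.ι_image_top _).symm
      (fun φ => Function.Surjective φ.hom)).mp (H U.1 U.2)

theorem appLE_surjective (h : X ⟶ Y) (g : X ⟶ S) (p : Y ⟶ S) [IsAffineHom p] [IsClosedImmersion h]
    (hg : h ≫ p = g) (U : S.Opens) (hU : IsAffineOpen U) :
    Function.Surjective (h.appLE (p ⁻¹ᵁ U) (g ⁻¹ᵁ U) (preimage_le hg U)) := by
  subst hg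
  show Function.Surjective (h.appLE (p ⁻¹ᵁ U) (h ⁻¹ᵁ (p ⁻¹ᵁ U)) le_rfl)
  rw [Scheme.Hom.appLE_eq_app]
  exact h.app_surjective _ (hU.preimage p)

variable {E M : S.Modules}

/-- A module generating the direct image algebra gives an embedding into its vector bundle. -/
theorem exists_embedding_of_gen (f : X ⟶ S) [IsAffineHom f] [Coh.IsQCoh E]
    (φ : E ⟶ (RelSpec.QCAlg.directImage f).toModule)
    (hgen : ∀ U : S.affineOpens, SymGenLib.gen (RelSpec.QCAlg.directImage f) φ U.1 = ⊤) :
    ∃ i : X ⟶ (SymAlgLib.symAlg E).spec, IsClosedImmersion i ∧ i ≫ (SymAlgLib.symAlg E).π = f := by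
  obtain ⟨ψ, hψ, -⟩ := SymAlgLib.existsUnique_lift E (RelSpec.QCAlg.directImage f) φ
  have hsurj : ∀ U : S.Opens, IsAffineOpen U → Function.Surjective (ψ.hom.app (op U)) := fun U hU x => by
    have hle : SymGenLib.gen (RelSpec.QCAlg.directImage f) φ U ≤ (ψ.hom.app (op U)).hom.range := by
      rw [SymGenLib.gen, Subring.closure_le]
      rintro _ (⟨r, rfl⟩ | ⟨e, rfl⟩)
      · exact ⟨(SymAlgLib.symAlg E).str.app (op U) r, congr($(NatTrans.congr_app ψ.comm (op U)) r)⟩
      · exact ⟨(SymAlgLib.symι E).app U e, congr(($hψ).app U e)⟩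
    exact hle ((hgen ⟨U, hU⟩).symm ▸ Subring.mem_top x)
  obtain ⟨h, ⟨hg, eh⟩, -⟩ := CycBdlLib.pts (SymAlgLib.symAlg E) f ψ
  refine ⟨h, isClosedImmersion_of_surjective h f (SymAlgLib.symAlg E).π hg fun U hU x => ?_, hg⟩
  obtain ⟨a, ha⟩ := hsurj U hU x
  exact ⟨(toF (SymAlgLib.symAlg E)).app (op U) a,
    (CycBdlLib.toF_algHom_app (SymAlgLib.symAlg E) f h hg U a).symm.trans
      ((congr(($eh).app (op U) a)).trans ha)⟩

/-- The resolution property gives embeddings into vector bundles. -/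
theorem exists_embedding [IsNoetherian S] (hR : PerfAux.HasResolutionProperty S) (f : X ⟶ S) [IsAffineHom f]
    [LocallyOfFiniteType f] :
    ∃ (E : S.Modules) (A : RelSpec.QCAlg S) (j : E ⟶ A.toModule) (i : X ⟶ A.spec),
      Coh.IsQCoh E ∧ FlatMod.IsFinLocFree E ∧ RelSpec.IsSymAlg E A j ∧ IsClosedImmersion i ∧ i ≫ A.π = f := by
  obtain ⟨N, jN, -, hNq, hNft, hgen⟩ := QCSubLib.exists_generating (RelSpec.QCAlg.directImage f) fun U => by
      show (f.app U.1).hom.FiniteType
      rw [Scheme.Hom.app_eq_appLE]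
      exact f.finiteType_appLE U.2 (U.2.preimage f) le_rfl
  obtain ⟨E, π, hE, hπ⟩ := hR N hNq hNft
  haveI hEq : Coh.IsQCoh E := FinLFAnn.isQCoh_of_isFinLocFree hE
  haveI := hNq
  obtain ⟨i, hi, hiπ⟩ := exists_embedding_of_gen f (π ≫ jN) fun U => eq_top_iff.2 ((hgen U).symm.trans_le (by
    rw [SymGenLib.gen, Subring.closure_le]
    rintro _ (⟨r, rfl⟩ | ⟨m, rfl⟩)
    · exact SymGenLib.str_mem _ (π ≫ jN) U.1 r
    · obtain ⟨e, rfl⟩ := SerreGenLib.app_surjective_of_epi π U.2 m
      exact SymGenLib.j_mem _ (π ≫ jN) U.1 e))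
  exact ⟨E, SymAlgLib.symAlg E, SymAlgLib.symι E, i, hEq, hE, SymAlgLib.isSymAlg E, hi, hiπ⟩

section Lin

variable (R N : Type u) [CommRing R] [AddCommGroup N] [Module R N]

/-- The degree one part of an element of the symmetric algebra. -/
def lin : SymmetricAlgebra R N →ₗ[R] N :=
  letI : Module Rᵐᵒᵖ N := Module.compHom _ ((RingHom.id R).fromOpposite mul_comm)
  haveI : IsCentralScalar R N := ⟨fun _ _ => rfl⟩
  (TrivSqZeroExt.sndHom R N).comp (SymmetricAlgebra.lift (TrivSqZeroExt.inrHom R N)).toLinearMap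

theorem lin_ι (m : N) : lin R N (SymmetricAlgebra.ι R N m) = m := by
  let inst : Module Rᵐᵒᵖ N := Module.compHom _ ((RingHom.id R).fromOpposite mul_comm)
  haveI : IsCentralScalar R N := ⟨fun _ _ => rfl⟩
  show (SymmetricAlgebra.lift (TrivSqZeroExt.inrHom R N) (SymmetricAlgebra.ι R N m)).snd = m
  rw [SymmetricAlgebra.lift_ι_apply]
  rfl

theorem lin_algebraMap (r : R) : lin R N (algebraMap R _ r) = 0 := by
  let inst : Module Rᵐᵒᵖ N := Module.compHom _ ((RingHom.id R).fromOpposite mul_comm)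
  haveI : IsCentralScalar R N := ⟨fun _ _ => rfl⟩
  show (SymmetricAlgebra.lift (TrivSqZeroExt.inrHom R N) (algebraMap R _ r)).snd = 0
  rw [AlgHom.commutes]
  rfl

theorem lin_mul (a b : SymmetricAlgebra R N) :
    lin R N (a * b) = SymmetricAlgebra.algebraMapInv a • lin R N b + SymmetricAlgebra.algebraMapInv b • lin R N a := by
  let inst : Module Rᵐᵒᵖ N := Module.compHom _ ((RingHom.id R).fromOpposite mul_comm)
  haveI : IsCentralScalar R N := ⟨fun _ _ => rfl⟩
  have key : ∀ x : SymmetricAlgebra R N,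
      (SymmetricAlgebra.lift (TrivSqZeroExt.inrHom R N) x).fst = SymmetricAlgebra.algebraMapInv x := by
    intro x
    induction x using SymmetricAlgebra.induction with
    | algebraMap r => rw [AlgHom.commutes, AlgHom.commutes]; rfl
    | ι m => rw [SymmetricAlgebra.lift_ι_apply, SymmetricAlgebra.algebraMapInv_ι]; rfl
    | mul a b ha hb => rw [map_mul, map_mul, TrivSqZeroExt.fst_mul, ha, hb]
    | add a b ha hb => rw [map_add, map_add, TrivSqZeroExt.fst_add, ha, hb]
  show (SymmetricAlgebra.lift (TrivSqZeroExt.inrHom R N) (a * b)).snd = _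
  rw [map_mul, TrivSqZeroExt.snd_mul, key, key, op_smul_eq_smul]
  rfl

variable {R N} {R' N' : Type u} [CommRing R'] [AddCommGroup N'] [Module R' N'] (φ : R →+* R') (f : N →+ N')
  (hf : ∀ (a : R) (m : N), f (a • m) = φ a • f m)

theorem algebraMapInv_mapRing (x : SymmetricAlgebra R N) :
    SymmetricAlgebra.algebraMapInv (SymAlgLib.mapRing φ f hf x) = φ (SymmetricAlgebra.algebraMapInv x) := by
  induction x using SymmetricAlgebra.induction with
  | algebraMap r => rw [SymAlgLib.mapRing_algebraMap, AlgHom.commutes, AlgHom.commutes]; rfl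
  | ι m => rw [SymAlgLib.mapRing_ι, SymmetricAlgebra.algebraMapInv_ι, SymmetricAlgebra.algebraMapInv_ι, map_zero]
  | mul a b ha hb => rw [map_mul, map_mul, map_mul, map_mul, ha, hb]
  | add a b ha hb => rw [map_add, map_add, map_add, map_add, ha, hb]

theorem lin_mapRing (x : SymmetricAlgebra R N) : lin R' N' (SymAlgLib.mapRing φ f hf x) = f (lin R N x) := by
  induction x using SymmetricAlgebra.induction with
  | algebraMap r => rw [SymAlgLib.mapRing_algebraMap, lin_algebraMap, lin_algebraMap, map_zero]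
  | ι m => rw [SymAlgLib.mapRing_ι, lin_ι, lin_ι]
  | mul a b ha hb =>
    rw [map_mul, lin_mul, lin_mul, map_add, hf, hf, ha, hb, algebraMapInv_mapRing, algebraMapInv_mapRing]
  | add a b ha hb => rw [map_add, map_add, map_add, map_add, ha, hb]

theorem finiteType_sym (R N : Type u) [CommRing R] [AddCommGroup N] [Module R N] [Module.Finite R N] :
    Algebra.FiniteType R (SymmetricAlgebra R N) := by
  classical
  obtain ⟨s, hs⟩ := Module.Finite.fg_top (R := R) (M := N)
  refine ⟨⟨s.image (SymmetricAlgebra.ι _ _), eq_top_iff.2 fun x hx => ?_⟩⟩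
  clear hx
  induction x using SymmetricAlgebra.induction with
  | algebraMap r => exact Subalgebra.algebraMap_mem _ r
  | ι m =>
    have hm : m ∈ Submodule.span R (s : Set N) := hs.symm ▸ trivial
    induction hm using Submodule.span_induction with
    | mem y hy => exact Algebra.subset_adjoin (Finset.mem_coe.mpr (Finset.mem_image_of_mem _ hy))
    | zero => rw [map_zero]; exact Subalgebra.zero_mem _
    | add y z _ _ hy hz => rw [map_add]; exact Subalgebra.add_mem _ hy hz
    | smul a y _ hy => rw [map_smul]; exact Subalgebra.smul_mem _ hy a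
  | mul a b hxa hxb => exact Subalgebra.mul_mem _ hxa hxb
  | add a b hxa hxb => exact Subalgebra.add_mem _ hxa hxb

theorem lin_mem_span {s : Set N} (x : SymmetricAlgebra R N)
    (hx : x ∈ Algebra.adjoin R {y | lin R N y ∈ Submodule.span R s}) : lin R N x ∈ Submodule.span R s := by
  induction hx using Algebra.adjoin_induction with
  | mem y hy => exact hy
  | algebraMap r => rw [lin_algebraMap]; exact zero_mem _
  | add a b _ _ ha hb => rw [map_add]; exact add_mem ha hb
  | mul a b _ _ ha hb =>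
    rw [lin_mul]; exact add_mem (Submodule.smul_mem _ _ hb) (Submodule.smul_mem _ _ ha)

end Lin

section Projection

variable (M : S.Modules) [Coh.IsQCoh M]

/-- The projection to degree one over the affine opens. -/
def linAff : (toOpensFunctor S).op ⋙ (SymAlgLib.symAlg M).toAb ⟶ (toOpensFunctor S).op ⋙ M.presheaf where
  app U := AddCommGrpCat.ofHom
    ((lin Γ(S, U.unop.1) Γ(M, U.unop.1)).toAddMonoidHom.comp (SymAlgLib.gamma M U.unop).hom.toAddMonoidHom)
  naturality U V i := by
    ext x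
    show lin _ _ (SymAlgLib.gamma M V.unop
        ((SymAlgLib.total M).presheaf.map (homOfLE ((SymAlgLib.proj M).preimage_mono (toOpens_mono i.unop.le))).op x)) =
      M.presheaf.map (homOfLE (toOpens_mono i.unop.le)).op (lin _ _ (SymAlgLib.gamma M U.unop x))
    rw [show SymAlgLib.gamma M V.unop ((SymAlgLib.total M).presheaf.map
        (homOfLE ((SymAlgLib.proj M).preimage_mono (toOpens_mono i.unop.le))).op x) =
      SymAlgLib.symRes M (toOpens_mono i.unop.le) (SymAlgLib.gamma M U.unop x) from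
      congr($(SymAlgLib.gamma_res M i.unop) x)]
    exact lin_mapRing _ _ _ _

/-- The projection to degree one, additively. -/
def linAdd : (SymAlgLib.symAlg M).toAb ⟶ M.presheaf :=
  Functor.IsCoverDense.restrictHomEquivHom (G := toOpensFunctor S)
    (K := Opens.grothendieckTopology S) (ℱ := (SymAlgLib.symAlg M).toAb)
    (ℱ' := (⟨M.presheaf, M.isSheaf⟩ : TopCat.Sheaf AddCommGrpCat.{u} S.carrier)) (linAff M)

theorem linAdd_app (U : S.AffineZariskiSite) : (linAdd M).app (op U.1) = (linAff M).app (op U) :=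
  NatTrans.congr_app
    ((Functor.IsCoverDense.restrictHomEquivHom (G := toOpensFunctor S)
      (K := Opens.grothendieckTopology S) (ℱ := (SymAlgLib.symAlg M).toAb)
      (ℱ' := (⟨M.presheaf, M.isSheaf⟩ : TopCat.Sheaf AddCommGrpCat.{u} S.carrier))).symm_apply_apply
        (linAff M)) (op U)

theorem linAdd_smul_aff (U : S.AffineZariskiSite) (r : Γ(S, U.1)) (m : Γ((SymAlgLib.symAlg M).toModule, U.1)) :
    (linAdd M).app (op U.1) (r • m) = r • (show Γ(M, U.1) from (linAdd M).app (op U.1) m) := by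
  rw [linAdd_app]
  show lin _ _ (SymAlgLib.gamma M U ((SymAlgLib.proj M).app U.1 r * (show Γ(SymAlgLib.total M, SymAlgLib.proj M ⁻¹ᵁ U.1) from m))) =
    r • lin _ _ (SymAlgLib.gamma M U (show Γ(SymAlgLib.total M, SymAlgLib.proj M ⁻¹ᵁ U.1) from m))
  rw [map_mul, show SymAlgLib.gamma M U ((SymAlgLib.proj M).app U.1 r) =
    algebraMap Γ(S, U.1) (SymmetricAlgebra Γ(S, U.1) Γ(M, U.1)) r from congr($(SymAlgLib.proj_gamma M U) r)]
  let w : SymmetricAlgebra Γ(S, U.1) Γ(M, U.1) :=
    SymAlgLib.gamma M U (show Γ(SymAlgLib.total M, SymAlgLib.proj M ⁻¹ᵁ U.1) from m)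
  exact (congrArg (lin Γ(S, U.1) Γ(M, U.1)) (Algebra.smul_def r w).symm).trans
    (map_smul (lin Γ(S, U.1) Γ(M, U.1)) r w)

/-- The projection to degree one. -/
def linHom : (SymAlgLib.symAlg M).toModule ⟶ M :=
  ⟨letI := (SymAlgLib.symAlg M).moduleSect
   PresheafOfModules.homMk (linAdd M) fun W r m => by
    refine TopCat.Presheaf.section_ext (⟨M.presheaf, M.isSheaf⟩ : TopCat.Sheaf AddCommGrpCat.{u} S.carrier) _ _ _
      fun y hy => ?_
    obtain ⟨V, hV, hyV, hle⟩ := exists_isAffineOpen_mem_and_subset (X := S) (x := y) (U := W.unop) hy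
    have h1 : ∀ z : (SymAlgLib.symAlg M).toAb.obj W, M.presheaf.map (homOfLE hle).op ((linAdd M).app W z) =
        (linAdd M).app (op V) ((SymAlgLib.symAlg M).toAb.map (homOfLE hle).op z) := fun z =>
      (congr($((linAdd M).naturality (homOfLE hle).op) z)).symm
    suffices M.presheaf.map (homOfLE hle).op ((linAdd M).app W (r • m)) =
        M.presheaf.map (homOfLE hle).op ((show Γ(S, W.unop) from r) • (show Γ(M, W.unop) from (linAdd M).app W m)) by
      have h := congrArg (M.presheaf.germ V y hyV) this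
      erw [TopCat.Presheaf.germ_res_apply, TopCat.Presheaf.germ_res_apply] at h
      exact h
    refine (h1 _).trans (Eq.trans ?_ (QCohLib.map_smul' M (homOfLE hle) r _).symm)
    refine Eq.trans ?_ (congrArg (fun z => (S.presheaf.map (homOfLE hle).op r) • (show Γ(M, V) from z)) (h1 m)).symm
    refine Eq.trans ?_ (linAdd_smul_aff M ⟨V, hV⟩ _ _)
    exact congrArg _ (QCohLib.map_smul' (SymAlgLib.symAlg M).toModule (homOfLE hle) r m)⟩

theorem linHom_app (U : S.AffineZariskiSite) (x : Γ(SymAlgLib.total M, SymAlgLib.proj M ⁻¹ᵁ U.1)) :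
    ((linHom M).app U.1 x : Γ(M, U.1)) = lin _ _ (SymAlgLib.gamma M U x) :=
  congr($(linAdd_app M U) x)

theorem lft_proj (h : CohB1.IsFT M) : LocallyOfFiniteType (SymAlgLib.proj M) := by
  refine IsZariskiLocalAtSource.of_openCover (SymAlgLib.glueData M).cover fun U => ?_
  show LocallyOfFiniteType (SymAlgLib.chart M U ≫ SymAlgLib.proj M)
  rw [SymAlgLib.chart_proj]
  haveI : LocallyOfFiniteType (Spec.map ((SymAlgLib.diagramMap M).app (op U))) := by
    rw [HasRingHomProperty.Spec_iff (P := @LocallyOfFiniteType)]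
    haveI := QCohLib.finite_of_isFT h U.2
    haveI := finiteType_sym Γ(S, U.1) Γ(M, U.1)
    exact (RingHom.finiteType_algebraMap (A := Γ(S, U.1))
      (B := SymmetricAlgebra Γ(S, U.1) Γ(M, U.1))).mpr inferInstance
  haveI := @locallyOfFiniteType_of_isOpenImmersion _ _ _ U.2.isOpenImmersion_fromSpec
  exact MorphismProperty.comp_mem _ _ _ ‹LocallyOfFiniteType (Spec.map ((SymAlgLib.diagramMap M).app (op U)))› this

end Projection

/-- An embedding of the vector bundle of `M` into that of `E` gives an epimorphism from `E` onto `M`. -/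
theorem exists_epi_of_embedding [Coh.IsQCoh M] [Coh.IsQCoh E] {A : RelSpec.QCAlg S} {j : E ⟶ A.toModule}
    (hA : RelSpec.IsSymAlg E A j) (i : SymAlgLib.total M ⟶ A.spec) [IsClosedImmersion i]
    (hiπ : i ≫ A.π = SymAlgLib.proj M) : ∃ φ : E ⟶ M, Epi φ := by
  let ψ : A ⟶ SymAlgLib.symAlg M := ⟨toF A ≫ AffAlg.algHom A.π (SymAlgLib.proj M) i hiπ, by
    rw [← Category.assoc, str_toF]; exact AffAlg.algHom_comm _ _ _ _⟩
  refine ⟨(j ≫ RelSpec.QCAlg.Hom.toModuleMap ψ) ≫ linHom M,
    QCohLib.epi_of_surjective_on_affines _ fun V s p hp => ?_⟩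
  obtain ⟨V', hV', hpV', hle⟩ := exists_isAffineOpen_mem_and_subset (X := S) (x := p) (U := V) hp
  refine ⟨V', hle, hpV', ?_⟩
  let U : S.AffineZariskiSite := ⟨V', hV'⟩
  obtain ⟨e, he1, he2⟩ := SymAlgLib.exists_affineIso hA U
  let G : SymmetricAlgebra Γ(S, V') Γ(E, V') →+* SymmetricAlgebra Γ(S, V') Γ(M, V') :=
    (SymAlgLib.gamma M U).hom.comp ((ψ.hom.app (op V')).hom.comp e.toRingHom)
  have hG : Function.Surjective G := by
    haveI : IsIso (toF A) := by unfold toF; infer_instance
    intro z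
    obtain ⟨x, rfl⟩ := (ConcreteCategory.bijective_of_isIso (SymAlgLib.gamma M U)).2 z
    obtain ⟨a, ha⟩ := appLE_surjective i (SymAlgLib.proj M) A.π hiπ V' hV' x
    obtain ⟨b, hb⟩ := (ConcreteCategory.bijective_of_isIso ((toF A).app (op V'))).2 a
    exact ⟨e.symm b, congrArg (SymAlgLib.gamma M U).hom
      ((congrArg (ψ.hom.app (op V')).hom (e.apply_symm_apply b)).trans
        ((CycBdlLib.toF_algHom_app A _ i hiπ V' b).trans (by rw [hb]; exact ha)))⟩
  have hGa : ∀ r : Γ(S, V'), G (algebraMap _ _ r) = algebraMap _ _ r := fun r => by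
    show SymAlgLib.gamma M U (ψ.hom.app (op V') (e (algebraMap _ _ r))) = _
    rw [he1]
    exact (congrArg _ congr($(NatTrans.congr_app ψ.comm (op V')) r)).trans congr($(SymAlgLib.proj_gamma M U) r)
  let φ := (j ≫ RelSpec.QCAlg.Hom.toModuleMap ψ) ≫ linHom M
  have hφ : ∀ m : Γ(E, V'), lin _ _ (G (SymmetricAlgebra.ι _ _ m)) = φ.app V' m := fun m => by
    show lin _ _ (SymAlgLib.gamma M U (ψ.hom.app (op V') (e (SymmetricAlgebra.ι _ _ m)))) = _
    rw [he2]
    exact (linHom_app M U _).symm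
  let T : Submodule Γ(S, V') Γ(M, V') := Submodule.span _ (Set.range fun m => φ.app V' m)
  have hall : ∀ y, G y ∈ Algebra.adjoin Γ(S, V') {y | lin _ Γ(M, V') y ∈ T} := fun y => by
    induction y using SymmetricAlgebra.induction with
    | algebraMap r => rw [hGa]; exact Subalgebra.algebraMap_mem _ r
    | ι m => exact Algebra.subset_adjoin (show lin _ _ _ ∈ T from hφ m ▸ Submodule.subset_span ⟨m, rfl⟩)
    | mul a b ha hb => rw [map_mul]; exact mul_mem ha hb
    | add a b ha hb => rw [map_add]; exact add_mem ha hb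
  obtain ⟨y, hy⟩ := hG (SymmetricAlgebra.ι _ _ (M.presheaf.map (homOfLE hle).op s))
  have hmem := lin_mem_span _ (hy ▸ hall y)
  rw [lin_ι] at hmem
  refine Submodule.span_induction (p := fun z _ => ∃ t, φ.app V' t = z) (fun z hz => hz) ⟨0, map_zero _⟩
    (fun a b _ _ ha hb => ?_) (fun r a _ ha => ?_) hmem
  · obtain ⟨⟨a', rfl⟩, ⟨b', rfl⟩⟩ := And.intro ha hb
    exact ⟨a' + b', map_add _ _ _⟩
  · obtain ⟨a', rfl⟩ := ha
    exact ⟨r • a', QCohLib.app_smul φ V' r a'⟩

/-- Embeddings into vector bundles give the resolution property. -/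
theorem hasResolutionProperty
    (h : ∀ (X : Scheme.{u}) (f : X ⟶ S) [IsAffineHom f] [LocallyOfFiniteType f],
      ∃ (E : S.Modules) (A : RelSpec.QCAlg S) (j : E ⟶ A.toModule) (i : X ⟶ A.spec),
        Coh.IsQCoh E ∧ FlatMod.IsFinLocFree E ∧ RelSpec.IsSymAlg E A j ∧ IsClosedImmersion i ∧ i ≫ A.π = f) :
    PerfAux.HasResolutionProperty S := by
  intro M hM hFT
  haveI := hM
  haveI := lft_proj M hFT
  obtain ⟨E, A, j, i, hEq, hE, hA, hi, hiπ⟩ := h (SymAlgLib.total M) (SymAlgLib.proj M)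
  haveI := hEq
  obtain ⟨φ, hφ⟩ := exists_epi_of_embedding hA i hiπ
  exact ⟨E, φ, hE, hφ⟩

end ResolEmbLib

end
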