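import Mathlib
import Groth.Agent.ResolEmbLib.Main

/-!
# Generating families and embeddings into vector bundles
-/

set_option autoImplicit false
set_option linter.style.haveILetI false
set_option linter.unusedSectionVars false

universe u

open AlgebraicGeometry CategoryTheory CategoryTheory.Limits Opposite TopologicalSpace

noncomputable section

namespace ResolEmbLib

variable {S : Scheme.{u}} {M : S.Modules} {κ : Type u} {G : κ → S.Modules} (g : ∀ k, G k ⟶ M)

/-- The map out of the sub-coproduct over a finite set of indices. -/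
def descF (F : Finset κ) : (∐ fun k : F => G k.1) ⟶ M := Sigma.desc fun k => g k.1

/-- Enlarging the finite set of indices. -/
def incl {F F' : Finset κ} (h : F ⊆ F') : (∐ fun k : F => G k.1) ⟶ ∐ fun k : F' => G k.1 :=
  Sigma.desc fun k => Sigma.ι (fun k : F' => G k.1) ⟨k.1, h k.2⟩

theorem incl_desc {F F' : Finset κ} (h : F ⊆ F') : incl h ≫ descF g F' = descF g F := by
  refine Sigma.hom_ext _ _ fun k => ?_
  simp [incl, descF]

theorem range_mono {F F' : Finset κ} (h : F ⊆ F') {V : S.Opens} {a : Γ(M, V)} (ha : ∃ t, (descF g F).app V t = a) :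
    ∃ t, (descF g F').app V t = a := by
  obtain ⟨t, rfl⟩ := ha
  exact ⟨(incl h).app V t, congr($(incl_desc g h).app V t)⟩

theorem range_res {F : Finset κ} {V W : S.Opens} (h : W ≤ V) {a : Γ(M, V)} (ha : ∃ t, (descF g F).app V t = a) :
    ∃ t, (descF g F).app W t = M.presheaf.map (homOfLE h).op a := by
  obtain ⟨t, rfl⟩ := ha
  exact ⟨_, QCohLib.app_map (descF g F) (homOfLE h) t⟩

/-- Sections locally coming from finitely many members of the family. -/
def finImg : QCohLib.LocSub M where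
  mem V a := ∀ p : S, p ∈ V → ∃ (W : S.Opens) (h : W ≤ V) (F : Finset κ), p ∈ W ∧
    ∃ t, (descF g F).app W t = M.presheaf.map (homOfLE h).op a
  zero V p hp := ⟨V, le_rfl, ∅, hp, 0, by rw [map_zero, map_zero]⟩
  add {V a b} ha hb p hp := by
    classical
    obtain ⟨W, h, F, hpW, ht⟩ := ha p hp
    obtain ⟨W', h', F', hpW', ht'⟩ := hb p hp
    obtain ⟨t, ht⟩ := range_res g (inf_le_left : W ⊓ W' ≤ W) (range_mono g (Finset.subset_union_left (s₂ := F')) ht)
    obtain ⟨t', ht'⟩ := range_res g (inf_le_right : W ⊓ W' ≤ W') (range_mono g (Finset.subset_union_right (s₁ := F)) ht')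
    refine ⟨W ⊓ W', inf_le_left.trans h, F ∪ F', ⟨hpW, hpW'⟩, t + t', ?_⟩
    rw [map_add, ht, ht', map_add, QCohLib.map_map', QCohLib.map_map']
    rfl
  smul {V} r {a} ha p hp := by
    obtain ⟨W, h, F, hpW, t, ht⟩ := ha p hp
    exact ⟨W, h, F, hpW, S.presheaf.map (homOfLE h).op r • t, by
      rw [QCohLib.app_smul, ht, QCohLib.map_smul']⟩
  res {V V'} hV {a} ha p hp := by
    obtain ⟨W, h, F, hpW, ht⟩ := ha p (hV hp)
    obtain ⟨t, ht⟩ := range_res g (inf_le_left : W ⊓ V' ≤ W) ht
    refine ⟨W ⊓ V', inf_le_right, F, ⟨hpW, hp⟩, t, ?_⟩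
    rw [ht, QCohLib.map_map', QCohLib.map_map']
    rfl
  local' {V} a ha p hp := by
    obtain ⟨W, h, hpW, hm⟩ := ha p hp
    obtain ⟨W', h', F, hpW', t, ht⟩ := hm p hpW
    refine ⟨W', h'.trans h, F, hpW', t, ?_⟩
    rw [ht, QCohLib.map_map']
    rfl

theorem mem_finImg (k : κ) (V : S.Opens) (e : Γ(G k, V)) : (finImg g).mem V ((g k).app V e) := by
  intro p hp
  refine ⟨V, le_rfl, {k}, hp, (Sigma.ι (fun j : ({k} : Finset κ) => G j.1) ⟨k, Finset.mem_singleton_self k⟩).app V e, ?_⟩
  refine Eq.trans ?_ (show M.presheaf.map (homOfLE (le_refl V)).op ((g k).app V e) = (g k).app V e from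
    (congrArg (fun i => M.presheaf.map i ((g k).app V e)) (Subsingleton.elim _ (𝟙 _))).trans
      congr($(M.presheaf.map_id _) ((g k).app V e))).symm
  exact congr($(show Sigma.ι (fun j : ({k} : Finset κ) => G j.1) ⟨k, Finset.mem_singleton_self k⟩ ≫ descF g {k} = g k
    from Sigma.ι_desc _ _).app V e)

/-- The family maps into the sections locally coming from finitely many members. -/
def toFinImg (k : κ) : G k ⟶ (finImg g).toModules :=
  ⟨PresheafOfModules.homMk (M₁ := (G k).val) (M₂ := (finImg g).pmod)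
    { app := fun V => AddCommGrpCat.ofHom (AddMonoidHom.mk'
        (fun e => (⟨(g k).app V.unop e, mem_finImg g k V.unop e⟩ : (finImg g).sub V.unop))
        fun a b => Subtype.ext (map_add ((g k).app V.unop).hom a b))
      naturality := fun V W i => by
        ext e
        exact Subtype.ext (QCohLib.app_map (g k) i.unop e) }
    fun V r e => Subtype.ext (QCohLib.app_smul (g k) V.unop r e)⟩

theorem toFinImg_ι (k : κ) : toFinImg g k ≫ (finImg g).ι = g k := rfl

theorem mem_of_epi [Epi (Sigma.desc g)] (V : S.Opens) (a : Γ(M, V)) : (finImg g).mem V a := by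
  have hfac : Sigma.desc (toFinImg g) ≫ (finImg g).ι = Sigma.desc g := by
    refine Sigma.hom_ext _ _ fun k => ?_
    rw [Sigma.ι_desc_assoc, Sigma.ι_desc, toFinImg_ι]
  haveI : Epi (finImg g).ι := epi_of_epi_fac hfac
  haveI : IsIso (finImg g).ι := isIso_of_mono_of_epi _
  have h := congr(($(IsIso.inv_hom_id (finImg g).ι)).app V a)
  have h' : (finImg g).ι.app V ((inv (finImg g).ι).app V a) = a := h
  exact h' ▸ (finImg g).ι_app_mem _

/-- Finitely many members of a family covering an algebra of finite type generate it. -/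
theorem exists_finset_gen [CompactSpace S] (B : RelSpec.QCAlg S)
    (hB : ∀ U : S.affineOpens, (B.str.app (op (U : S.Opens))).hom.FiniteType)
    (hG : ∀ k, Coh.IsQCoh (G k)) (b : ∀ k, G k ⟶ B.toModule) [Epi (Sigma.desc b)] :
    ∃ F : Finset κ, ∀ U : S.affineOpens, SymGenLib.gen B (descF b F) U.1 = ⊤ := by
  classical
  haveI : ∀ F : Finset κ, Coh.IsQCoh (∐ fun k : F => G k.1) := fun F =>
    QCohLib.isQCoh_sigma _ fun k => hG k.1
  have hloc : ∀ x : S, ∃ (W : S.Opens) (F : Finset κ), IsAffineOpen W ∧ x ∈ W ∧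
      SymGenLib.gen B (descF b F) W = ⊤ := fun x => by
    obtain ⟨U, hU, hxU, -⟩ := exists_isAffineOpen_mem_and_subset (X := S) (x := x) (U := ⊤) trivial
    letI := (B.str.app (op U)).hom.toAlgebra
    obtain ⟨T, hT⟩ := (show Algebra.FiniteType Γ(S, U) (B.presheaf.obj (op U)) from hB ⟨U, hU⟩).out
    choose W hW F hxW hm using fun c : T => mem_of_epi b U c.1 x hxU
    have hmem : x ∈ (⨅ c : T, W c : S.Opens) ⊓ U := by
      refine ⟨?_, hxU⟩
      show x ∈ ((⨅ c : T, W c : S.Opens) : Set S)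
      rw [Opens.coe_iInf]
      exact Set.mem_iInter.2 hxW
    obtain ⟨f, hfle, hxf⟩ := hU.exists_basicOpen_le ⟨x, hmem⟩ hxU
    refine ⟨S.basicOpen f, Finset.univ.biUnion F, hU.basicOpen f, hxf, eq_top_iff.2 fun z _ => ?_⟩
    have hres : ∀ c : B.presheaf.obj (op U),
        SymGenLib.res B (S.basicOpen_le f) c ∈ SymGenLib.gen B (descF b (Finset.univ.biUnion F)) (S.basicOpen f) := fun c => by
      have hc : c ∈ Algebra.adjoin Γ(S, U) (T : Set (B.presheaf.obj (op U))) := hT ▸ trivial
      induction hc using Algebra.adjoin_induction with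
      | mem c hc =>
        obtain ⟨t, ht⟩ := range_res b (hfle.trans (inf_le_left.trans (iInf_le W ⟨c, hc⟩)))
          (range_mono b (Finset.subset_biUnion_of_mem F (Finset.mem_univ (⟨c, hc⟩ : T))) (hm ⟨c, hc⟩))
        have : SymGenLib.res B (S.basicOpen_le f) c = (descF b (Finset.univ.biUnion F)).app (S.basicOpen f) t := by
          rw [ht, QCohLib.map_map']
          rfl
        rw [this]
        exact SymGenLib.j_mem _ _ _ t
      | algebraMap r =>
        rw [show algebraMap Γ(S, U) (B.presheaf.obj (op U)) r = (B.str.app (op U)).hom r from rfl, SymGenLib.res_str]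
        exact SymGenLib.str_mem _ _ _ _
      | add a c _ _ ha hc => rw [map_add]; exact add_mem ha hc
      | mul a c _ _ ha hc => rw [map_mul]; exact mul_mem ha hc
    let _inst := (B.presheaf.map (homOfLE (S.basicOpen_le f)).op).hom.toAlgebra
    have hloc : IsLocalization.Away ((B.str.app (op U)).hom f) (B.presheaf.obj (op (S.basicOpen f))) := B.isQC U hU f
    obtain ⟨⟨c, _, n, rfl⟩, hc⟩ := IsLocalization.surj (Submonoid.powers ((B.str.app (op U)).hom f)) z
    obtain ⟨v, hv⟩ := (show IsUnit ((S.presheaf.map (homOfLE (S.basicOpen_le f)).op).hom f ^ n) from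
      (S.toRingedSpace.isUnit_res_basicOpen f).pow n)
    have hz : z = (B.str.app (op (S.basicOpen f))).hom ↑v⁻¹ * SymGenLib.res B (S.basicOpen_le f) c := by
      have h1 : z * (B.str.app (op (S.basicOpen f))).hom ↑v = SymGenLib.res B (S.basicOpen_le f) c := by
        refine Eq.trans ?_ hc
        rw [hv, map_pow]
        refine congrArg (z * ·) ?_
        exact (congrArg (· ^ n) (SymGenLib.res_str B (S.basicOpen_le f) f).symm).trans (map_pow _ _ _).symm
      rw [← h1, mul_comm z, ← mul_assoc, ← map_mul, Units.inv_mul, map_one, one_mul]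
    rw [hz]
    exact mul_mem (SymGenLib.str_mem _ _ _ _) (hres c)
  choose W F hW hxW hgen using hloc
  obtain ⟨t, ht⟩ := isCompact_univ.elim_finite_subcover (fun x => (W x : Set S)) (fun x => (W x).isOpen)
    fun p _ => Set.mem_iUnion.2 ⟨p, hxW p⟩
  refine ⟨t.biUnion F, fun U => QCSubLib.gen_eq_top_of_cover B _ (fun p => ?_) U.2⟩
  obtain ⟨x, hx, hp⟩ := Set.mem_iUnion₂.1 (ht (Set.mem_univ p))
  refine ⟨W x, hW x, hp, eq_top_iff.2 ((hgen x).symm.trans_le ?_)⟩
  rw [SymGenLib.gen, Subring.closure_le]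
  rintro _ (⟨r, rfl⟩ | ⟨e, rfl⟩)
  · exact SymGenLib.str_mem _ _ _ r
  · obtain ⟨e', he'⟩ := range_mono b (Finset.subset_biUnion_of_mem F hx) ⟨e, rfl⟩
    show _ ∈ SymGenLib.gen B _ (W x)
    beta_reduce
    rw [← he']
    exact SymGenLib.j_mem _ _ _ e'

/-- Generating families and embeddings. -/
theorem generating_iff_embedding [CompactSpace S] {ι : Type u} (E : ι → S.Modules)
    (hE : ∀ i, Coh.IsQCoh (E i)) :
    (∀ M : S.Modules, Coh.IsQCoh M → ∃ (κ : Type u) (j : κ → ι) (π : (∐ fun k : κ => E (j k)) ⟶ M), Epi π) ↔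
    (∀ (Y : Scheme.{u}) (f : Y ⟶ S) [IsAffineHom f],
      ∃ (κ : Type u) (j : κ → ι) (B : RelSpec.QCAlg S) (φ : (∐ fun k : κ => E (j k)) ⟶ B.toModule) (c : Y ⟶ B.spec),
        RelSpec.IsSymAlg (∐ fun k : κ => E (j k)) B φ ∧ IsClosedImmersion c ∧ c ≫ B.π = f ∧
        (LocallyOfFiniteType f → Finite κ)) := by
  refine ⟨fun h Y f _ => ?_, fun h M hM => ?_⟩
  · let B := RelSpec.QCAlg.directImage f
    haveI hBq : Coh.IsQCoh B.toModule := QCSubLib.isQCoh_toModule B
    obtain ⟨κ, j, π, hπ⟩ := h B.toModule hBq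
    haveI : Coh.IsQCoh (∐ fun k : κ => E (j k)) := QCohLib.isQCoh_sigma _ fun k => hE _
    by_cases hf : LocallyOfFiniteType f
    · haveI := hf
      have hdesc : Sigma.desc (fun k => Sigma.ι (fun k : κ => E (j k)) k ≫ π) = π :=
        Sigma.hom_ext _ _ fun k => Sigma.ι_desc _ _
      haveI : Epi (Sigma.desc fun k => Sigma.ι (fun k : κ => E (j k)) k ≫ π) := by rw [hdesc]; exact hπ
      obtain ⟨F, hF⟩ := exists_finset_gen (G := fun k : κ => E (j k)) B (fun U => by
        show (f.app U.1).hom.FiniteType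
        rw [Scheme.Hom.app_eq_appLE]
        exact f.finiteType_appLE U.2 (U.2.preimage f) le_rfl) (fun k => hE _)
        (fun k => Sigma.ι (fun k : κ => E (j k)) k ≫ π)
      haveI : Coh.IsQCoh (∐ fun k : F => E (j k.1)) := QCohLib.isQCoh_sigma _ fun k => hE _
      obtain ⟨c, hc, hcπ⟩ := exists_embedding_of_gen f
        (descF (G := fun k : κ => E (j k)) (fun k => Sigma.ι (fun k : κ => E (j k)) k ≫ π) F) hF
      exact ⟨F, fun k => j k.1, SymAlgLib.symAlg _, SymAlgLib.symι _, c, SymAlgLib.isSymAlg _, hc, hcπ,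
        fun _ => Finite.of_fintype _⟩
    · obtain ⟨c, hc, hcπ⟩ := exists_embedding_of_gen f π fun U => eq_top_iff.2 fun a _ => by
        obtain ⟨e, rfl⟩ := SerreGenLib.app_surjective_of_epi π U.2 a
        exact SymGenLib.j_mem _ _ _ e
      exact ⟨κ, j, SymAlgLib.symAlg _, SymAlgLib.symι _, c, SymAlgLib.isSymAlg _, hc, hcπ, fun h => absurd h hf⟩
  · haveI := hM
    obtain ⟨κ, j, B, φ, c, hB, hc, hcπ, -⟩ := h (SymAlgLib.total M) (SymAlgLib.proj M)
    haveI : Coh.IsQCoh (∐ fun k : κ => E (j k)) := QCohLib.isQCoh_sigma _ fun k => hE _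
    obtain ⟨π, hπ⟩ := exists_epi_of_embedding hB c hcπ
    exact ⟨κ, j, π, hπ⟩

end ResolEmbLib

end
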